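import Cfsg.Agent.H883.BR.Fam

/-!
# BR-G3: `TPrim` for rank one root elements (helper487)

* `exists_regular` : the centraliser of a semisimple subgroup is a von Neumann regular ring;
* `root_mem` : `a X - X a` and `a X a` lie in an invariant centraliser;
* `comm_of_zero` : if `a C a = 0` then `a` commutes with `C`;
* `tprim_of_rank_one`.
-/

set_option autoImplicit false

open Cfsg.Agent.H883.BR

namespace Cfsg.Agent.H487.BR

universe u v w

section

variable {K : Type u} [Field K] {V : Type v} [AddCommGroup V] [Module K V] {G : Type w} [Group G]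
  {ρ : G →* Module.End K V} {N : Subgroup G}

theorem one_mem_cent : (1 : Module.End K V) ∈ cent ρ N := fun n _ => by rw [one_mul, mul_one]

theorem mul_mem_cent {X Y : Module.End K V} (hX : X ∈ cent ρ N) (hY : Y ∈ cent ρ N) : X * Y ∈ cent ρ N := by
  intro n hn
  rw [mul_assoc, hY n hn, ← mul_assoc, hX n hn, mul_assoc]

/-- the centraliser of a semisimple subgroup is a regular ring -/
theorem exists_regular (hs : Ssm ρ N) {Z : Module.End K V} (hZ : Z ∈ cent ρ N) :
    ∃ Y ∈ cent ρ N, Z * Y * Z = Z := by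
  have hZ' : ∀ n ∈ N, ∀ v, Z (ρ n v) = ρ n (Z v) := fun n hn v => LinearMap.congr_fun (hZ n hn) v
  obtain ⟨P, hP, hPc⟩ := hs (LinearMap.ker Z) (fun n hn v hv => by
    rw [LinearMap.mem_ker] at hv ⊢
    rw [hZ' n hn, hv, map_zero])
  obtain ⟨Q, hQ, hQc⟩ := hs (LinearMap.range Z) (fun n hn v hv => by
    obtain ⟨u, rfl⟩ := hv
    exact ⟨ρ n u, hZ' n hn u⟩)
  -- the restriction of `Z` to `P`
  let f : P →ₗ[K] LinearMap.range Z := (Z.comp P.subtype).codRestrict (LinearMap.range Z) (fun x => ⟨x, rfl⟩)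
  have hf : ∀ x : P, ((f x : LinearMap.range Z) : V) = Z x := fun x => rfl
  have hbij : Function.Bijective f := by
    constructor
    · rw [← LinearMap.ker_eq_bot, eq_bot_iff]
      intro x hx
      have h1 : Z (x : V) = 0 := by
        have := congrArg Subtype.val (LinearMap.mem_ker.1 hx)
        exact this
      have h2 : (x : V) ∈ LinearMap.ker Z ⊓ P := ⟨LinearMap.mem_ker.2 h1, x.2⟩
      rw [hPc.inf_eq_bot] at h2
      exact (Submodule.mem_bot K).2 (Subtype.ext ((Submodule.mem_bot K).1 h2))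
    · rintro ⟨y, u, rfl⟩
      have h1 : u ∈ LinearMap.ker Z ⊔ P := by rw [hPc.sup_eq_top]; exact Submodule.mem_top
      obtain ⟨k, hk, x, hx, rfl⟩ := Submodule.mem_sup.1 h1
      refine ⟨⟨x, hx⟩, Subtype.ext ?_⟩
      change Z x = Z (k + x)
      rw [map_add, LinearMap.mem_ker.1 hk, zero_add]
  let e := LinearEquiv.ofBijective f hbij
  have he : ∀ x : P, Z (x : V) = (e x : V) := fun x => rfl
  let Y : Module.End K V := P.subtype ∘ₗ e.symm.toLinearMap ∘ₗ (Submodule.projectionOnto _ _ hQc)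
  have hYP : ∀ v, Y v ∈ P := fun v => (e.symm (Submodule.projectionOnto _ _ hQc v)).2
  have hYZ : ∀ x ∈ P, Y (Z x) = x := by
    intro x hx
    have h1 : Z x = ((e ⟨x, hx⟩ : LinearMap.range Z) : V) := rfl
    change ((e.symm (Submodule.projectionOnto _ _ hQc (Z x)) : P) : V) = x
    rw [h1, Submodule.projectionOnto_apply_left, LinearEquiv.symm_apply_apply]
  have hYQ : ∀ x ∈ Q, Y x = 0 := by
    intro x hx
    change ((e.symm (Submodule.projectionOnto _ _ hQc x) : P) : V) = 0
    rw [Submodule.projectionOnto_apply_of_mem_right _ hx, map_zero]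
    rfl
  have hdec : ∀ v : V, ∃ x ∈ P, ∃ y ∈ Q, v = Z x + y := by
    intro v
    have h1 : v ∈ LinearMap.range Z ⊔ Q := by rw [hQc.sup_eq_top]; exact Submodule.mem_top
    obtain ⟨z, ⟨u, rfl⟩, y, hy, rfl⟩ := Submodule.mem_sup.1 h1
    have h2 : u ∈ LinearMap.ker Z ⊔ P := by rw [hPc.sup_eq_top]; exact Submodule.mem_top
    obtain ⟨k, hk, x, hx, rfl⟩ := Submodule.mem_sup.1 h2
    exact ⟨x, hx, y, hy, by rw [map_add, LinearMap.mem_ker.1 hk, zero_add]⟩
  refine ⟨Y, ?_, ?_⟩
  · intro n hn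
    refine LinearMap.ext fun v => ?_
    obtain ⟨x, hx, y, hy, rfl⟩ := hdec v
    change Y (ρ n (Z x + y)) = ρ n (Y (Z x + y))
    rw [map_add, map_add, map_add, hYZ x hx, hYQ y hy, add_zero, ← hZ' n hn, hYZ _ (hP n hn x hx),
      hYQ _ (hQ n hn y hy), add_zero]
  · refine LinearMap.ext fun v => ?_
    change Z (Y (Z v)) = Z v
    have h2 : v ∈ LinearMap.ker Z ⊔ P := by rw [hPc.sup_eq_top]; exact Submodule.mem_top
    obtain ⟨k, hk, x, hx, rfl⟩ := Submodule.mem_sup.1 h2
    rw [map_add, LinearMap.mem_ker.1 hk, zero_add, hYZ x hx]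

theorem eq_zero_of_regular (hs : Ssm ρ N) {Z : Module.End K V} (hZ : Z ∈ cent ρ N)
    (h : ∀ Y ∈ cent ρ N, Z * Y * Z = 0) : Z = 0 := by
  obtain ⟨Y, hY, h1⟩ := exists_regular hs hZ
  rw [← h1, h Y hY]

/-- `a X - X a` and `a X a` lie in `C` -/
theorem root_mem {F : Subfield K} [Finite F] (h3 : 3 ≤ Nat.card F) {S : Submodule K (Module.End K V)}
    (hC : Inv (ad ρ) ⊤ S) {a : Module.End K V} (ha : Rt ρ F ⊤ a) {X : Module.End K V} (hX : X ∈ S) :
    a * X - X * a ∈ S ∧ a * X * a ∈ S := by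
  obtain ⟨ha2, hat⟩ := ha
  have key : ∀ t ∈ F, t • (a * X - X * a) - (t * t) • (a * X * a) ∈ S := by
    intro t ht
    obtain ⟨g, -, hg⟩ := hat t ht
    have hinv : ρ g⁻¹ = 1 - t • a := by
      have h1 : ρ g⁻¹ * ρ g = 1 := by rw [← map_mul, inv_mul_cancel, map_one]
      have h2 : ρ g * (1 - t • a) = 1 := by
        rw [hg, add_mul, one_mul, mul_sub, mul_one, smul_mul_smul_comm, ha2, smul_zero, sub_zero, sub_add_cancel]
      calc ρ g⁻¹ = ρ g⁻¹ * (ρ g * (1 - t • a)) := by rw [h2, mul_one]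
        _ = 1 - t • a := by rw [← mul_assoc, h1, one_mul]
    have h1 := hC g (Subgroup.mem_top g) X hX
    rw [ad_apply, hg, hinv] at h1
    have h2 : (1 + t • a) * X * (1 - t • a) = X + (t • (a * X - X * a) - (t * t) • (a * X * a)) := by
      rw [add_mul, one_mul, mul_sub, mul_one, add_mul, smul_mul_assoc, smul_mul_smul_comm, mul_smul_comm, smul_sub]
      abel
    rw [h2] at h1
    have h3 := S.sub_mem h1 hX
    rwa [add_sub_cancel_left] at h3
  obtain ⟨t, ht0, ht1⟩ : ∃ t : F, t ≠ 0 ∧ t ≠ 1 := by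
    by_contra hcon
    push Not at hcon
    have := Fintype.ofFinite F
    classical
    have h1 : (Finset.univ : Finset F) ⊆ {0, 1} := by
      intro t _
      rw [Finset.mem_insert, Finset.mem_singleton]
      by_cases h0 : t = 0
      · exact Or.inl h0
      · exact Or.inr (hcon t h0)
    have h2 := Finset.card_le_card h1
    rw [Finset.card_univ, ← Nat.card_eq_fintype_card] at h2
    have h4 := Finset.card_le_two (a := (0 : F)) (b := 1)
    omega
  have e0 : (t : K) ≠ 0 := fun h => ht0 (Subtype.ext h)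
  have e1 : (t : K) - 1 ≠ 0 := fun h => ht1 (Subtype.ext (sub_eq_zero.1 h))
  have k1 := key 1 F.one_mem
  have k2 := key t t.2
  rw [one_smul, one_mul, one_smul] at k1
  have k3 : (a * X - X * a) - (t : K) • (a * X * a) ∈ S := by
    have := S.smul_mem (t : K)⁻¹ k2
    rwa [smul_sub, smul_smul, smul_smul, inv_mul_cancel₀ e0, one_smul, ← mul_assoc, inv_mul_cancel₀ e0, one_mul] at this
  have k4 : ((t : K) - 1) • (a * X * a) ∈ S := by
    have := S.sub_mem k1 k3
    have h5 : a * X - X * a - a * X * a - (a * X - X * a - (t : K) • (a * X * a)) = ((t : K) - 1) • (a * X * a) := by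
      rw [sub_smul, one_smul]; abel
    rwa [h5] at this
  have k5 : a * X * a ∈ S := by
    have := S.smul_mem ((t : K) - 1)⁻¹ k4
    rwa [smul_smul, inv_mul_cancel₀ e1, one_smul] at this
  refine ⟨?_, k5⟩
  have := S.add_mem k1 k5
  rwa [sub_add_cancel] at this

/-- if `a C a = 0` then `a` commutes with `C` -/
theorem comm_of_zero {F : Subfield K} [Finite F] (h3 : 3 ≤ Nat.card F) (hs : Ssm ρ N)
    (hC : Inv (ad ρ) ⊤ (cent ρ N)) {a : Module.End K V} (ha : Rt ρ F ⊤ a)
    (h0 : ∀ X ∈ cent ρ N, a * X * a = 0) : ∀ X ∈ cent ρ N, a * X = X * a := by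
  intro X hX
  have hZ : a * X - X * a ∈ cent ρ N := (root_mem h3 hC ha hX).1
  rw [← sub_eq_zero]
  refine eq_zero_of_regular hs hZ fun Y hY => ?_
  have e1 : a * (X * Y) * a = 0 := h0 _ (mul_mem_cent hX hY)
  have e2 : a * (X * Y * X) * a = 0 := h0 _ (mul_mem_cent (mul_mem_cent hX hY) hX)
  have e3 : a * Y * a = 0 := h0 _ hY
  have e4 : a * (Y * X) * a = 0 := h0 _ (mul_mem_cent hY hX)
  have h1 : (a * X - X * a) * Y * (a * X - X * a) =
      (a * (X * Y) * a) * X - a * (X * Y * X) * a - X * (a * Y * a) * X + X * (a * (Y * X) * a) := by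
    simp only [sub_mul, mul_sub, mul_assoc]
    abel
  rw [h1, e1, e2, e3, e4]
  simp

end

/-- **`TPrim` for rank one root elements** -/
theorem tprim_of_rank_one {K : Type u} [Field K] {F : Subfield K} [Finite F] (h3 : 3 ≤ Nat.card F) {G : Type w}
    [Group G] {V : Type v} [AddCommGroup V] [Module K V] {ρ : G →* Module.End K V}
    (A : Set (Module.End K V)) (hA : ∀ a ∈ A, Rt ρ F ⊤ a ∧ ∃ (v : V) (φ : Module.Dual K V), ∀ y, a y = φ y • v)
    (hgen : ∀ X : Module.End K V, (∀ a ∈ A, a * X = X * a) → ∃ c : K, X = c • 1)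
    (hconn : ∀ S : Submodule K (Module.End K V), Inv (ad ρ) ⊤ S → (∃ a ∈ A, a ≠ 0 ∧ a ∈ S) → ∀ a ∈ A, a ∈ S) :
    TPrim ρ := by
  intro N hs hC
  by_cases hex : ∃ a ∈ A, ∃ X ∈ cent ρ N, a * X * a ≠ 0
  · left
    obtain ⟨a, ha, X, hX, hne⟩ := hex
    obtain ⟨hr, v, φ, hv⟩ := hA a ha
    have h1 : a * X * a = φ (X v) • a := by
      refine LinearMap.ext fun y => ?_
      change a (X (a y)) = φ (X v) • a y
      rw [hv y, map_smul, map_smul, hv (X v), smul_comm]
    have h2 : a * X * a ∈ cent ρ N := (root_mem h3 hC hr hX).2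
    have hφ : φ (X v) ≠ 0 := by
      intro h0
      rw [h1, h0, zero_smul] at hne
      exact hne rfl
    have ha0 : a ≠ 0 := by
      rintro rfl
      exact hne (by rw [mul_zero])
    have haC : a ∈ cent ρ N := by
      rw [h1] at h2
      have := (cent ρ N).smul_mem (φ (X v))⁻¹ h2
      rwa [smul_smul, inv_mul_cancel₀ hφ, one_smul] at this
    intro n hn
    apply hgen
    intro b hb
    exact hconn _ hC ⟨a, ha, ha0, haC⟩ b hb n hn
  · right
    push Not at hex
    intro X hX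
    apply hgen
    intro a ha
    exact comm_of_zero h3 hs hC (hA a ha).1 (hex a ha) X hX

end Cfsg.Agent.H487.BR
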